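import Mathlib
import Groth.Agent.Lib.SmoothingH7.Detect

/-!
Equations with independent differentials extending a smooth closed subscheme: the ring statements.
-/

set_option autoImplicit false
set_option maxHeartbeats 800000
set_option synthInstance.maxHeartbeats 80000

universe u

open TensorProduct KaehlerDifferential IsLocalRing
set_option linter.style.haveILetI false

namespace Groth.Agent.SmoothExt9

section Minor

variable {A B : Type u} [CommRing A] [CommRing B] [Algebra A B] (k : Type u) [Field k] [Algebra B k]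

/-- The differential with values in a field over `B`. -/
noncomputable def δ (b : B) : k ⊗[B] Ω[B⁄A] := 1 ⊗ₜ D A B b

theorem δ_mul (a b : B) : δ (A := A) k (a * b) = algebraMap B k a • δ (A := A) k b + algebraMap B k b • δ (A := A) k a := by
  simp only [δ, Derivation.leibniz, TensorProduct.tmul_add, TensorProduct.tmul_smul, algebraMap_smul]

theorem δ_add (a b : B) : δ (A := A) k (a + b) = δ (A := A) k a + δ (A := A) k b := by
  simp only [δ, map_add, TensorProduct.tmul_add]

/-- Independent differentials have a minor which is nonzero in the field. -/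
theorem exists_minor [Module.Projective B Ω[B⁄A]] {r : ℕ} (g : Fin r → B)
    (hli : LinearIndependent k fun i => δ (A := A) k (g i)) :
    ∃ φ : Fin r → (Ω[B⁄A] →ₗ[B] B),
      algebraMap B k (Matrix.det (Matrix.of fun i j => φ i (D A B (g j)))) ≠ 0 := by
  classical
  obtain ⟨P0, hP0⟩ := Module.projective_def.1 (inferInstance : Module.Projective B Ω[B⁄A])
  let u : Ω[B⁄A] → Fin r → k := fun s j => algebraMap B k (P0 (D A B (g j)) s)
  have hspan : Submodule.span k (Set.range u) = ⊤ := by
    by_contra hne
    obtain ⟨f, hf0, hfle⟩ := Submodule.exists_le_ker_of_lt_top _ (lt_top_iff_ne_top.2 hne)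
    let a : Fin r → k := fun j => f (Pi.single j 1)
    have hfa : ∀ v : Fin r → k, f v = ∑ j, v j * a j := fun v => by
      conv_lhs => rw [pi_eq_sum_univ' v]
      simp [a, smul_eq_mul]
    have hz : ∀ s, ∑ j, algebraMap B k (P0 (D A B (g j)) s) * a j = 0 := fun s => by
      rw [← hfa]
      exact LinearMap.mem_ker.1 (hfle (Submodule.subset_span ⟨s, rfl⟩))
    let S : Finset Ω[B⁄A] := Finset.univ.biUnion fun j => (P0 (D A B (g j))).support
    have hexp : ∀ j, δ (A := A) k (g j) = ∑ s ∈ S, algebraMap B k (P0 (D A B (g j)) s) • ((1 : k) ⊗ₜ[B] s) := fun j => by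
      have h1 := hP0 (D A B (g j))
      rw [Finsupp.linearCombination_apply, Finsupp.sum_of_support_subset (s := S) _
        (show (P0 (D A B (g j))).support ⊆ S from fun x hx =>
          Finset.mem_biUnion.2 ⟨j, Finset.mem_univ _, hx⟩) (fun i (a : B) => a • id i) (fun _ _ => zero_smul _ _)] at h1
      rw [δ]
      conv_lhs => rw [← h1, TensorProduct.tmul_sum]
      refine Finset.sum_congr rfl fun s _ => ?_
      rw [id_eq, TensorProduct.tmul_smul, algebraMap_smul]
    have h0 : ∑ j, a j • δ (A := A) k (g j) = 0 := by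
      simp only [hexp, Finset.smul_sum, smul_smul]
      rw [Finset.sum_comm]
      refine Finset.sum_eq_zero fun s _ => ?_
      rw [← Finset.sum_smul]
      rw [show ∑ j, a j * algebraMap B k (P0 (D A B (g j)) s) = 0 from
        (Finset.sum_congr rfl fun j _ => mul_comm _ _).trans (hz s), zero_smul]
    exact hf0 (LinearMap.ext fun v => by
      rw [hfa]; simp [Fintype.linearIndependent_iff.1 hli a h0])
  obtain ⟨b, hb, hbspan, hbli⟩ := exists_linearIndependent k (Set.range u)
  rw [hspan] at hbspan
  let bb := Module.Basis.mk hbli (by rw [Subtype.range_coe]; exact hbspan.ge)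
  haveI : Finite b := Module.Finite.finite_basis bb
  haveI : Fintype b := Fintype.ofFinite b
  have hcard : Fintype.card b = r := by
    rw [← Module.finrank_eq_card_basis bb, Module.finrank_pi, Fintype.card_fin]
  let eqv : Fin r ≃ b := (Fintype.equivFinOfCardEq hcard).symm
  have hs : ∀ i, ∃ s, u s = (eqv i : Fin r → k) := fun i => hb (eqv i).2
  choose s hs using hs
  refine ⟨fun i => (Finsupp.lapply (s i)).comp P0, ?_⟩
  rw [RingHom.map_det]
  have hM : (algebraMap B k).mapMatrix (Matrix.of fun i j => ((Finsupp.lapply (s i)).comp P0) (D A B (g j))) =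
      Matrix.of fun i => (eqv i : Fin r → k) := by
    ext i j
    exact congrFun (hs i) j
  rw [hM]
  refine IsUnit.ne_zero ((Matrix.isUnit_iff_isUnit_det _).1 (Matrix.linearIndependent_rows_iff_isUnit.1 ?_))
  exact hbli.comp eqv eqv.injective

end Minor

/-- The quotient by equations with a unit Jacobian minor is smooth. -/
theorem smooth_quotient {A S : Type u} [CommRing A] [CommRing S] [Algebra A S] [Algebra.Smooth A S] {r : ℕ}
    (g : Fin r → S) (φ : Fin r → (Ω[S⁄A] →ₗ[S] S))
    (hdet : IsUnit (Matrix.det (Matrix.of fun i j => φ i (D A S (g j))))) :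
    Algebra.Smooth A (S ⧸ Ideal.span (Set.range g)) := by
  classical
  let K : Ideal S := Ideal.span (Set.range g)
  let T := S ⧸ K
  obtain ⟨M, hM⟩ := (Matrix.isUnit_iff_isUnit_det _).2 hdet
  let Mi : Matrix (Fin r) (Fin r) S := (↑M⁻¹ : Matrix (Fin r) (Fin r) S)
  have hker : RingHom.ker (algebraMap S T) = K := Ideal.mk_ker
  have hmem : ∀ i, g i ∈ RingHom.ker (algebraMap S T) := fun i => hker.ge (Ideal.subset_span (Set.mem_range_self i))
  let N := (RingHom.ker (algebraMap S T)).Cotangent
  let gg : Fin r → N := fun i => Ideal.toCotangent _ ⟨g i, hmem i⟩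
  have hkill : ∀ c ∈ K, ∀ x : N, c • x = 0 := fun c hc x => by
    obtain ⟨y, rfl⟩ := Ideal.toCotangent_surjective _ x
    rw [← map_smul, Ideal.toCotangent_eq_zero, pow_two]
    exact Ideal.mul_mem_mul (hker.ge hc) y.2
  let ψ : Ω[S⁄A] →ₗ[S] N := ∑ i, (∑ l, Mi i l • φ l).smulRight (gg i)
  have hψ : ∀ j, ψ (D A S (g j)) = gg j := fun j => by
    simp only [ψ, LinearMap.sum_apply, LinearMap.smulRight_apply, LinearMap.smul_apply, smul_eq_mul]
    have h1 : ∀ i, ∑ l, Mi i l * φ l (D A S (g j)) = (1 : Matrix (Fin r) (Fin r) S) i j := fun i => by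
      have h2 : Mi * (M : Matrix (Fin r) (Fin r) S) = 1 := Units.inv_mul _
      rw [hM] at h2
      exact congrFun (congrFun h2 i) j
    simp only [h1, Matrix.one_apply, ite_smul, one_smul, zero_smul, Finset.sum_ite_eq', Finset.mem_univ, if_true]
  let β : T →ₗ[S] Ω[S⁄A] →ₗ[S] N := Submodule.liftQ K (LinearMap.toSpanSingleton S _ ψ) fun c hc => by
    rw [LinearMap.mem_ker, LinearMap.toSpanSingleton_apply]
    exact LinearMap.ext fun x => hkill c hc _
  let l : T ⊗[S] Ω[S⁄A] →ₗ[S] N := TensorProduct.lift β
  have hl : ∀ x : Ω[S⁄A], l (1 ⊗ₜ x) = ψ x := fun x => LinearMap.congr_fun (one_smul S ψ) x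
  haveI : Algebra.FormallySmooth A T :=
    (Algebra.FormallySmooth.iff_split_injection (R := A) (P := S) (A := T) Ideal.Quotient.mk_surjective).2
      ⟨l, by
        refine LinearMap.ext fun z => ?_
        obtain ⟨⟨z, hz⟩, rfl⟩ := Ideal.toCotangent_surjective _ z
        rw [LinearMap.comp_apply, KaehlerDifferential.kerCotangentToTensor_toCotangent, hl, LinearMap.id_apply]
        obtain ⟨c, rfl⟩ := (Ideal.mem_span_range_iff_exists_fun (R := S)).1 (hker.le hz)
        have hz' : (⟨∑ i, c i * g i, hz⟩ : RingHom.ker (algebraMap S T)) = ∑ i, c i • ⟨g i, hmem i⟩ := by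
          apply Subtype.ext
          simp
        rw [hz']
        simp only [AddSubmonoidClass.coe_finsetSum, SetLike.val_smul, smul_eq_mul, map_sum]
        refine Finset.sum_congr rfl fun i _ => ?_
        rw [Derivation.leibniz, map_add, map_smul, map_smul, hψ, hkill (g i) (Ideal.subset_span ⟨i, rfl⟩),
          add_zero, map_smul]⟩
  exact ⟨inferInstance, Algebra.FinitePresentation.quotient (Submodule.fg_span (Set.finite_range g))⟩

/-- The quotient becomes smooth on the basic open given by a Jacobian minor. -/
theorem smooth_quotient_away {A B : Type u} [CommRing A] [CommRing B] [Algebra A B] [Algebra.Smooth A B] {r : ℕ}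
    (g : Fin r → B) (φ : Fin r → (Ω[B⁄A] →ₗ[B] B))
    (S : Type u) [CommRing S] [Algebra A S] [Algebra B S] [IsScalarTower A B S] (u : B)
    [IsLocalization.Away u S] (hu : IsUnit (algebraMap B S (Matrix.det (Matrix.of fun i j => φ i (D A B (g j)))))) :
    Algebra.Smooth A (S ⧸ Ideal.span (Set.range fun i => algebraMap B S (g i))) := by
  classical
  haveI : Algebra.FormallyEtale B S := Algebra.FormallyEtale.of_isLocalization (.powers u)
  haveI : Algebra.FinitePresentation B S := IsLocalization.Away.finitePresentation u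
  haveI : Algebra.Smooth B S := ⟨inferInstance, inferInstance⟩
  haveI : Algebra.Smooth A S := Algebra.Smooth.comp A B S
  have hbc : IsBaseChange S (map A A B S) := isBaseChange_of_formallyEtale A B S
  let φ' : Fin r → (Ω[S⁄A] →ₗ[S] S) := fun i => hbc.lift ((Algebra.linearMap B S).comp (φ i))
  refine smooth_quotient _ φ' ?_
  convert hu using 1
  rw [RingHom.map_det]
  congr 1
  ext i j
  show hbc.lift _ (D A S (algebraMap B S (g j))) = algebraMap B S (φ i (D A B (g j)))
  rw [← map_D A A B S (g j), hbc.lift_eq]
  rfl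

section Rank

variable {A A' B C : Type u} [CommRing A] [CommRing A'] [CommRing B] [CommRing C]
  [Algebra A A'] [Algebra A B] [Algebra B C] [Algebra A' C] [Algebra A C] [IsScalarTower A A' C]
  [IsScalarTower A B C] (k : Type u) [Field k] [Algebra B k] [Algebra C k] [IsScalarTower B C k]

/-- The span of the differentials of the kernel has the complementary rank. -/
theorem finrank_span_δ (hA : Function.Surjective (algebraMap A A')) (hB : Function.Surjective (algebraMap B C))
    [Module.Finite B Ω[B⁄A]] :
    Module.finrank k (Submodule.span k (δ (A := A) k '' (RingHom.ker (algebraMap B C) : Set B))) +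
      Module.finrank k (k ⊗[C] Ω[C⁄A']) = Module.finrank k (k ⊗[B] Ω[B⁄A]) := by
  classical
  let V := Submodule.span k (δ (A := A) k '' (RingHom.ker (algebraMap B C) : Set B))
  let M := (k ⊗[B] Ω[B⁄A]) ⧸ V
  suffices h : Nonempty (M ≃ₗ[k] k ⊗[C] Ω[C⁄A']) by
    obtain ⟨e⟩ := h
    rw [← e.finrank_eq, add_comm]
    exact Submodule.finrank_quotient_add_finrank V
  -- the map to the quotient
  let d₁ : Ω[B⁄A] →ₗ[B] k ⊗[C] Ω[C⁄A'] :=
    { toFun := fun w => (1 : k) ⊗ₜ map A A' B C w
      map_add' := fun a b => by rw [map_add, TensorProduct.tmul_add]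
      map_smul' := fun b w => by
        rw [RingHom.id_apply, map_smul, ← algebraMap_smul C b, TensorProduct.tmul_smul, algebraMap_smul] }
  let φ : k ⊗[B] Ω[B⁄A] →ₗ[k] k ⊗[C] Ω[C⁄A'] := LinearMap.liftBaseChange k d₁
  have hφ : ∀ b, φ (δ (A := A) k b) = 1 ⊗ₜ D A' C (algebraMap B C b) := fun b => by
    rw [δ, LinearMap.liftBaseChange_tmul, one_smul]
    show (1 : k) ⊗ₜ map A A' B C (D A B b) = _
    rw [map_D]
  have hV : V ≤ LinearMap.ker φ := Submodule.span_le.2 (by
    rintro _ ⟨b, hb, rfl⟩
    rw [SetLike.mem_coe, LinearMap.mem_ker, hφ, RingHom.mem_ker.1 hb, map_zero, TensorProduct.tmul_zero])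
  let φ₁ : M →ₗ[k] k ⊗[C] Ω[C⁄A'] := V.liftQ φ hV
  -- the inverse
  let σ := Function.surjInv hB
  have hσ : ∀ c, algebraMap B C (σ c) = c := Function.surjInv_eq hB
  let q : B → M := fun b => Submodule.Quotient.mk (δ (A := A) k b)
  have hq : ∀ a b, algebraMap B C a = algebraMap B C b → q a = q b := fun a b h => by
    refine (Submodule.Quotient.eq V).2 (Submodule.subset_span ⟨a - b, ?_, ?_⟩)
    · rw [SetLike.mem_coe, RingHom.mem_ker, map_sub, h, sub_self]
    · rw [δ, δ, δ, map_sub, TensorProduct.tmul_sub]
  have hqmul : ∀ a b, q (a * b) = algebraMap B k a • q b + algebraMap B k b • q a := fun a b => by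
    simp only [q, δ_mul, Submodule.Quotient.mk_add, Submodule.Quotient.mk_smul]
  have hqadd : ∀ a b, q (a + b) = q a + q b := fun a b => by
    simp only [q, δ_add, Submodule.Quotient.mk_add]
  have hqA : ∀ a : A, q (algebraMap A B a) = 0 := fun a => by
    simp only [q, δ, Derivation.map_algebraMap, TensorProduct.tmul_zero, Submodule.Quotient.mk_zero]
  letI : Module A' M := Module.compHom M ((algebraMap C k).comp (algebraMap A' C))
  have hA' : ∀ (a : A') (m : M), a • m = algebraMap C k (algebraMap A' C a) • m := fun _ _ => rfl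
  haveI : IsScalarTower A' C M := IsScalarTower.of_algebraMap_smul fun a m => by
    rw [hA']
    exact (algebraMap_smul k (algebraMap A' C a) m).symm
  let d₂ : Derivation A' C M :=
    Derivation.mk'
      { toFun := fun c => q (σ c)
        map_add' := fun a b => by
          rw [← hqadd]
          exact hq _ _ (by rw [map_add, hσ, hσ, hσ])
        map_smul' := fun a c => by
          obtain ⟨a, rfl⟩ := hA a
          rw [RingHom.id_apply, hA', ← IsScalarTower.algebraMap_apply A A' C, IsScalarTower.algebraMap_apply A B C,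
            ← IsScalarTower.algebraMap_apply B C k]
          rw [hq _ (algebraMap A B a * σ c) (by
            rw [hσ, map_mul, hσ, Algebra.smul_def, ← IsScalarTower.algebraMap_apply A A' C,
              IsScalarTower.algebraMap_apply A B C]), hqmul, hqA, smul_zero, add_zero] }
      fun a b => by
        show q (σ (a * b)) = a • q (σ b) + b • q (σ a)
        rw [hq _ (σ a * σ b) (by rw [hσ, map_mul, hσ, hσ]), hqmul, IsScalarTower.algebraMap_apply B C k (σ a),
          IsScalarTower.algebraMap_apply B C k (σ b), hσ, hσ, algebraMap_smul, algebraMap_smul]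
  let ψ : k ⊗[C] Ω[C⁄A'] →ₗ[k] M := LinearMap.liftBaseChange k d₂.liftKaehlerDifferential
  have hψ : ∀ c, ψ (1 ⊗ₜ D A' C c) = q (σ c) := fun c => by
    rw [LinearMap.liftBaseChange_tmul, one_smul, Derivation.liftKaehlerDifferential_comp_D]
    rfl
  have h₁ : ∀ x, ψ (φ₁ x) = x := by
    intro x
    obtain ⟨x, rfl⟩ := Submodule.Quotient.mk_surjective V x
    show ψ (φ x) = _
    induction x using TensorProduct.induction_on with
    | zero => simp
    | add a b ha hb => rw [map_add, map_add, ha, hb, Submodule.Quotient.mk_add]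
    | tmul c w =>
      have hw : w ∈ Submodule.span B (Set.range (D A B)) := by rw [span_range_derivation]; trivial
      induction hw using Submodule.span_induction with
      | mem z hz =>
        obtain ⟨b, rfl⟩ := hz
        have : c ⊗ₜ[B] D A B b = c • δ (A := A) k b := by rw [δ, TensorProduct.smul_tmul', smul_eq_mul, mul_one]
        rw [this, map_smul, map_smul, hφ, hψ, Submodule.Quotient.mk_smul]
        exact congrArg _ (hq _ _ (hσ _))
      | zero => simp
      | add a b _ _ ha hb => rw [TensorProduct.tmul_add, map_add, map_add, ha, hb, Submodule.Quotient.mk_add]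
      | smul t a _ ha => rw [TensorProduct.tmul_smul, ← algebraMap_smul k t, map_smul, map_smul, ha,
          Submodule.Quotient.mk_smul]
  have h₂ : ∀ y, φ₁ (ψ y) = y := by
    intro y
    induction y using TensorProduct.induction_on with
    | zero => simp
    | add a b ha hb => rw [map_add, map_add, ha, hb]
    | tmul c w =>
      have hw : w ∈ Submodule.span C (Set.range (D A' C)) := by rw [span_range_derivation]; trivial
      induction hw using Submodule.span_induction with
      | mem z hz =>
        obtain ⟨x, rfl⟩ := hz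
        have : c ⊗ₜ[C] D A' C x = c • ((1 : k) ⊗ₜ[C] D A' C x) := by
          rw [TensorProduct.smul_tmul', smul_eq_mul, mul_one]
        rw [this, map_smul, map_smul, hψ]
        show c • φ (δ (A := A) k (σ x)) = _
        rw [hφ, hσ]
      | zero => simp
      | add a b _ _ ha hb => rw [TensorProduct.tmul_add, map_add, map_add, ha, hb]
      | smul t a _ ha => rw [TensorProduct.tmul_smul, ← algebraMap_smul k t, map_smul, map_smul, ha]
  exact ⟨LinearEquiv.ofLinearMap φ₁ ψ (LinearMap.ext h₂) (LinearMap.ext h₁)⟩

end Rank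

/-- Standard smooth charts compute the rank of the differentials at a point. -/
theorem finrank_kaehler_of_locally {A B : Type u} [CommRing A] [CommRing B] [Algebra A B] (n : ℕ)
    (h : RingHom.Locally (RingHom.IsStandardSmoothOfRelativeDimension n) (algebraMap A B))
    (k : Type u) [Field k] [Algebra B k] :
    Module.finrank k (k ⊗[B] Ω[B⁄A]) = n := by
  obtain ⟨s, hs, hsm⟩ := h
  obtain ⟨t, hts, ht0⟩ : ∃ t ∈ s, algebraMap B k t ≠ 0 := by
    by_contra! hall
    have : (1 : B) ∈ RingHom.ker (algebraMap B k) := (Ideal.span_le (I := RingHom.ker (algebraMap B k))).2 hall (hs.symm ▸ Submodule.mem_top)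
    exact one_ne_zero ((map_one (algebraMap B k)).symm.trans this)
  let B' := Localization.Away t
  have h1 := hsm t hts
  rw [← IsScalarTower.algebraMap_eq, RingHom.isStandardSmoothOfRelativeDimension_algebraMap] at h1
  haveI := h1
  letI : Algebra B' k := (IsLocalization.Away.lift (S := B') t (g := algebraMap B k) (IsUnit.mk0 _ ht0)).toAlgebra
  haveI : IsScalarTower B B' k := IsScalarTower.of_algebraMap_eq fun b =>
    (IsLocalization.Away.lift_eq t (IsUnit.mk0 _ ht0) b).symm
  haveI : Nontrivial B' := (algebraMap B' k).domain_nontrivial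
  haveI : Algebra.FormallyEtale B B' := Algebra.FormallyEtale.of_isLocalization (.powers t)
  haveI : Algebra.IsStandardSmooth A B' := Algebra.IsStandardSmoothOfRelativeDimension.isStandardSmooth n
  have hr : Module.finrank B' Ω[B'⁄A] = n := by
    rw [Module.finrank, Algebra.IsStandardSmoothOfRelativeDimension.rank_kaehlerDifferential n]
    simp
  rw [← hr, ← Module.finrank_baseChange (R := k) (S := B') (M' := Ω[B'⁄A])]
  exact ((TensorProduct.AlgebraTensorModule.cancelBaseChange B B' k k Ω[B⁄A]).symm ≪≫ₗ
    TensorProduct.AlgebraTensorModule.congr (LinearEquiv.refl k k)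
      (tensorKaehlerEquivOfFormallyEtale A B B')).finrank_eq

/-- At a smooth point of the quotient, elements without differential lie in the maximal ideal times the kernel. -/
theorem detect {R B C : Type u} [CommRing R] [CommRing B] [CommRing C] [Algebra R B] [Algebra B C] [Algebra R C]
    [IsScalarTower R B C] [Algebra.Smooth R B] [Algebra.Smooth R C] (hsurj : Function.Surjective (algebraMap B C))
    (q : Ideal C) [q.IsPrime] {r : ℕ} (g : Fin r → B) (hg : ∀ i, g i ∈ RingHom.ker (algebraMap B C))
    (hspan : ∀ x ∈ RingHom.ker (algebraMap B C), ∃ w ∉ q.comap (algebraMap B C), ∃ b : Fin r → B,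
      ∀ s : Derivation R B B, s (w * x - ∑ i, b i * g i) ∈ q.comap (algebraMap B C)) :
    ∃ w ∉ q.comap (algebraMap B C), ∀ x ∈ RingHom.ker (algebraMap B C), w * x ∈ Ideal.span (Set.range g) := by
  classical
  set Q := q.comap (algebraMap B C)
  let L := Localization.AtPrime Q
  let J := RingHom.ker (algebraMap B C)
  let G : Ideal B := Ideal.span (Set.range g)
  have hfg : J.FG := Algebra.FinitePresentation.ker_fG_of_surjective (IsScalarTower.toAlgHom R B C) hsurj
  have hG : G ≤ J := Ideal.span_le.2 (by rintro _ ⟨i, rfl⟩; exact hg i)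
  have hle : J.map (algebraMap B L) ≤ G.map (algebraMap B L) := by
    refine Submodule.le_of_le_smul_of_le_jacobson_bot (I := maximalIdeal L) (hfg.map _)
      (IsLocalRing.jacobson_eq_maximalIdeal ⊥ bot_ne_top).ge ?_
    refine Ideal.map_le_iff_le_comap.2 fun x hx => ?_
    obtain ⟨w, hw, b, hb⟩ := hspan x hx
    have h1 : ∑ i, b i * g i ∈ G := Ideal.sum_mem _ fun i _ => G.mul_mem_left _ (Ideal.subset_span ⟨i, rfl⟩)
    have h2 := Groth.Agent.Lib.SmoothingH7.detect_of_smoothAt hsurj hfg q
      (Algebra.FormallySmooth.comp R C (Localization.AtPrime q)) _ (J.sub_mem (J.mul_mem_left w hx) (hG h1)) hb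
    have h3 : algebraMap B L (w * x) ∈ G.map (algebraMap B L) ⊔ maximalIdeal L • J.map (algebraMap B L) := by
      rw [show algebraMap B L (w * x) =
        algebraMap B L (∑ i, b i * g i) + algebraMap B L (w * x - ∑ i, b i * g i) by rw [← map_add, add_sub_cancel]]
      exact Submodule.add_mem_sup (Ideal.mem_map_of_mem _ h1) h2
    rw [map_mul] at h3
    exact (Ideal.unit_mul_mem_iff_mem _ (IsLocalization.map_units L (⟨w, hw⟩ : Q.primeCompl))).1 h3
  have hx : ∀ x ∈ J, ∃ w ∉ Q, w * x ∈ G := fun x hx => by
    obtain ⟨w, hw, h⟩ := (IsLocalization.algebraMap_mem_map_algebraMap_iff Q.primeCompl L _ _).1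
      (hle (Ideal.mem_map_of_mem _ hx))
    exact ⟨w, hw, h⟩
  obtain ⟨S, hS⟩ := hfg
  choose w hw hwx using hx
  have hSJ : ∀ x ∈ S, x ∈ J := fun x hx => hS ▸ Submodule.subset_span hx
  refine ⟨∏ x : S, w x.1 (hSJ x.1 x.2), ?_, fun x hx => ?_⟩
  · refine fun h => ?_
    obtain ⟨x, -, hx⟩ := Ideal.IsPrime.prod_mem_iff.1 h
    exact hw _ _ hx
  · have : J ≤ G.colon {∏ x : S, w x.1 (hSJ x.1 x.2)} := by
      rw [show J = _ from hS.symm]
      refine Submodule.span_le.2 fun y hy => Submodule.mem_colon_singleton.2 ?_
      obtain ⟨c, hc⟩ := Finset.dvd_prod_of_mem (fun x : S => w x.1 (hSJ x.1 x.2)) (Finset.mem_univ ⟨y, hy⟩)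
      rw [smul_eq_mul, mul_comm, hc, mul_assoc, mul_comm c, ← mul_assoc]
      exact G.mul_mem_right _ (hwx _ _)
    rw [mul_comm]
    exact Submodule.mem_colon_singleton.1 (this hx)

section Point

variable {A A' B C : Type u} [CommRing A] [CommRing A'] [CommRing B] [CommRing C]
  [Algebra A A'] [Algebra A B] [Algebra B C] [Algebra A' C] [Algebra A C] [IsScalarTower A A' C]
  [IsScalarTower A B C] (q : Ideal B) [q.IsPrime]

/-- At a point of the closed subscheme, `n - e` of its equations have independent differentials spanning all. -/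
theorem exists_basis [Algebra.Smooth A B] (hA : Function.Surjective (algebraMap A A'))
    (hB : Function.Surjective (algebraMap B C)) (hq : RingHom.ker (algebraMap B C) ≤ q) (n e : ℕ)
    (hn : RingHom.Locally (RingHom.IsStandardSmoothOfRelativeDimension n) (algebraMap A B))
    (he : RingHom.Locally (RingHom.IsStandardSmoothOfRelativeDimension e) (algebraMap A' C)) :
    e ≤ n ∧ Module.finrank q.ResidueField (Submodule.span q.ResidueField
        (δ (A := A) q.ResidueField '' (RingHom.ker (algebraMap B C) : Set B))) = n - e ∧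
      ∃ g : Fin (n - e) → B, (∀ i, g i ∈ RingHom.ker (algebraMap B C)) ∧
        LinearIndependent q.ResidueField fun i => δ (A := A) q.ResidueField (g i) := by
  classical
  let k := q.ResidueField
  letI : Algebra C k := ((Ideal.Quotient.lift (RingHom.ker (algebraMap B C)) (algebraMap B k)
    fun b hb => Ideal.algebraMap_residueField_eq_zero.2 (hq hb)).comp
      (RingHom.quotientKerEquivOfSurjective hB).symm.toRingHom).toAlgebra
  haveI : IsScalarTower B C k := IsScalarTower.of_algebraMap_eq fun b => by
    rw [RingHom.algebraMap_toAlgebra, RingHom.comp_apply, RingEquiv.toRingHom_eq_coe, RingEquiv.coe_toRingHom, show (RingHom.quotientKerEquivOfSurjective hB).symm (algebraMap B C b) = Ideal.Quotient.mk _ b from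
      (RingEquiv.symm_apply_eq _).2 rfl]
    rfl
  have h := finrank_span_δ (A := A) (A' := A') (B := B) (C := C) k hA hB
  rw [finrank_kaehler_of_locally e he k, finrank_kaehler_of_locally n hn k] at h
  change Module.finrank q.ResidueField (Submodule.span q.ResidueField
        (δ (A := A) q.ResidueField '' (RingHom.ker (algebraMap B C) : Set B))) + e = n at h
  refine ⟨by omega, by omega, ?_⟩
  obtain ⟨b, hb, hbspan, hbli⟩ := exists_linearIndependent k (δ (A := A) k '' (RingHom.ker (algebraMap B C) : Set B))
  let V := Submodule.span k (δ (A := A) k '' (RingHom.ker (algebraMap B C) : Set B))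
  haveI : Finite b := hbli.finite
  haveI : Fintype b := Fintype.ofFinite b
  have hcard : Fintype.card b = n - e := by
    rw [← finrank_span_eq_card hbli, Subtype.range_coe, hbspan]
    show Module.finrank k V = _
    have : Module.finrank k V + e = n := h
    omega
  let eqv : Fin (n - e) ≃ b := (Fintype.equivFinOfCardEq hcard).symm
  have hg : ∀ i, ∃ x ∈ RingHom.ker (algebraMap B C), δ (A := A) k x = (eqv i : k ⊗[B] Ω[B⁄A]) := fun i =>
    hb (eqv i).2
  choose g hg hge using hg
  refine ⟨g, hg, ?_⟩
  exact (show (fun i => δ (A := A) k (g i)) = fun i => (eqv i : k ⊗[B] Ω[B⁄A]) from funext hge) ▸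
    hbli.comp eqv eqv.injective

/-- Equations with independent differentials cut out a smooth extension near the point. -/
theorem exists_nhd [Algebra.Smooth A B] [Algebra.Smooth A' C] (hA : Function.Surjective (algebraMap A A'))
    (hB : Function.Surjective (algebraMap B C)) (hq : RingHom.ker (algebraMap B C) ≤ q) {r : ℕ}
    (hr : Module.finrank q.ResidueField (Submodule.span q.ResidueField
        (δ (A := A) q.ResidueField '' (RingHom.ker (algebraMap B C) : Set B))) = r)
    (g : Fin r → B) (hg : ∀ i, g i ∈ RingHom.ker (algebraMap B C))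
    (hli : LinearIndependent q.ResidueField fun i => δ (A := A) q.ResidueField (g i)) :
    ∃ u : B, u ∉ q ∧ ∀ (S : Type u) [CommRing S] [Algebra A S] [Algebra B S] [IsScalarTower A B S]
      (u' : B) [IsLocalization.Away u' S], IsUnit (algebraMap B S u) → Algebra.Smooth A (S ⧸ Ideal.span (Set.range fun i => algebraMap B S (g i))) ∧
        (RingHom.ker (algebraMap B C)).map (algebraMap B S) ≤
          Ideal.span (Set.range fun i => algebraMap B S (g i)) ⊔
            (RingHom.ker (algebraMap A A')).map (algebraMap A S) := by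
  classical
  obtain ⟨φ, hφ⟩ := exists_minor (A := A) q.ResidueField g hli
  let k := q.ResidueField
  let V := Submodule.span k (δ (A := A) k '' (RingHom.ker (algebraMap B C) : Set B))
  have hspanV : V = Submodule.span k (Set.range fun i => δ (A := A) k (g i)) := by
    refine (Submodule.eq_of_le_of_finrank_le (Submodule.span_le.2 ?_) ?_).symm
    · rintro _ ⟨i, rfl⟩; exact Submodule.subset_span ⟨g i, hg i, rfl⟩
    · rw [finrank_span_eq_card hli, Fintype.card_fin]; exact hr.le
  -- the reduction modulo the kernel downstairs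
  let K := RingHom.ker (algebraMap A A')
  let R := A ⧸ K
  let B' := B ⧸ K.map (algebraMap A B)
  haveI : Algebra.Smooth R B' :=
    Algebra.Smooth.of_equiv (Algebra.TensorProduct.quotIdealMapEquivQuotTensor (A := A) B K).symm
  let eK : R ≃+* A' := RingHom.quotientKerEquivOfSurjective hA
  letI : Algebra R A' := eK.toRingHom.toAlgebra
  haveI : Algebra.Smooth R A' :=
    Algebra.Smooth.of_equiv (AlgEquiv.ofRingEquiv (R := R) (f := eK) fun _ => rfl : R ≃ₐ[R] A')
  letI : Algebra R C := ((algebraMap A' C).comp eK.toRingHom).toAlgebra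
  haveI : IsScalarTower R A' C := IsScalarTower.of_algebraMap_eq fun _ => rfl
  haveI : Algebra.Smooth R C := Algebra.Smooth.comp R A' C
  have hKC : K.map (algebraMap A B) ≤ RingHom.ker (algebraMap B C) := Ideal.map_le_iff_le_comap.2 fun a ha => by
    rw [Ideal.mem_comap, RingHom.mem_ker, ← IsScalarTower.algebraMap_apply A B C, IsScalarTower.algebraMap_apply A A' C,
      RingHom.mem_ker.1 ha, map_zero]
  letI : Algebra B' C := (Ideal.Quotient.lift _ (algebraMap B C) fun b hb => hKC hb).toAlgebra
  haveI : IsScalarTower R B' C := IsScalarTower.of_algebraMap_eq fun a => by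
    obtain ⟨a, rfl⟩ := Ideal.Quotient.mk_surjective a
    show algebraMap A' C (algebraMap A A' a) = algebraMap B C (algebraMap A B a)
    rw [← IsScalarTower.algebraMap_apply A A' C, IsScalarTower.algebraMap_apply A B C]
  have hB' : Function.Surjective (algebraMap B' C) := fun c => by
    obtain ⟨b, rfl⟩ := hB c
    exact ⟨Ideal.Quotient.mk _ b, rfl⟩
  let qC : Ideal C := q.map (algebraMap B C)
  haveI : qC.IsPrime := Ideal.map_isPrime_of_surjective hB hq
  have hqC : qC.comap (algebraMap B C) = q := by
    rw [Ideal.comap_map_of_surjective _ hB, sup_eq_left]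
    exact hq
  have hmem : ∀ b : B, Ideal.Quotient.mk (K.map (algebraMap A B)) b ∈ qC.comap (algebraMap B' C) ↔ b ∈ q := fun b => by
    show algebraMap B C b ∈ qC ↔ b ∈ q
    rw [← Ideal.mem_comap, hqC]
  obtain ⟨w, hw, hwJ⟩ := detect (R := R) hB' qC (fun i => Ideal.Quotient.mk _ (g i))
    (fun i => show algebraMap B C (g i) = 0 from hg i) (fun x hx => by
      obtain ⟨j, rfl⟩ := Ideal.Quotient.mk_surjective x
      have hj : δ (A := A) k j ∈ V := Submodule.subset_span ⟨j, hx, rfl⟩
      rw [hspanV] at hj
      obtain ⟨c, hc⟩ := (Submodule.mem_span_range_iff_exists_fun k).1 hj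
      obtain ⟨⟨w, hw⟩, hwc⟩ := IsLocalization.exist_integer_multiples_of_finite
        (nonZeroDivisors (B ⧸ q)) c
      choose b hb using hwc
      obtain ⟨w, rfl⟩ := Ideal.Quotient.mk_surjective w
      choose b' hb' using fun i => Ideal.Quotient.mk_surjective (b i)
      have hwq : w ∉ q := fun h => nonZeroDivisors.ne_zero hw (Ideal.Quotient.eq_zero_iff_mem.2 h)
      have hcb : ∀ i, algebraMap B k (b' i) = algebraMap B k w * c i := fun i => by
        have h1 := hb i
        rw [← hb' i, Algebra.smul_def] at h1
        rw [IsScalarTower.algebraMap_apply B (B ⧸ q) k, IsScalarTower.algebraMap_apply B (B ⧸ q) k w]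
        exact h1
      refine ⟨Ideal.Quotient.mk _ w, fun h => hwq ((hmem w).1 h), fun i => Ideal.Quotient.mk _ (b' i), fun s => ?_⟩
      have hzero : δ (A := A) k (w * j - ∑ i, b' i * g i) = 0 := by
        have hj0 : ∀ x ∈ RingHom.ker (algebraMap B C), algebraMap B k x = 0 := fun x hx =>
          Ideal.algebraMap_residueField_eq_zero.2 (hq hx)
        rw [δ, map_sub, map_sum, TensorProduct.tmul_sub, TensorProduct.tmul_sum]
        show δ (A := A) k (w * j) - ∑ i, δ (A := A) k (b' i * g i) = 0
        simp only [δ_mul, hj0 j hx, hj0 _ (hg _), zero_smul, add_zero, hcb, mul_smul]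
        rw [← Finset.smul_sum, hc, sub_self]
      -- the derivation with values in the residue ring
      let ee : B' →+* B ⧸ q := Ideal.Quotient.lift _ (Ideal.Quotient.mk q)
        (fun b hb => Ideal.Quotient.eq_zero_iff_mem.2 (hq (hKC hb)))
      have hee : ∀ b : B, ee (Ideal.Quotient.mk _ b) = Ideal.Quotient.mk q b := fun _ => rfl
      let d : Derivation A B (B ⧸ q) := Derivation.mk'
        { toFun := fun b => ee (s (Ideal.Quotient.mk _ b))
          map_add' := fun a b => by rw [map_add, map_add, map_add]
          map_smul' := fun a b => by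
            rw [RingHom.id_apply]
            have h1 : Ideal.Quotient.mk (K.map (algebraMap A B)) (a • b) =
                Ideal.Quotient.mk K a • Ideal.Quotient.mk (K.map (algebraMap A B)) b := by
              rw [Algebra.smul_def, Algebra.smul_def, map_mul]
              rfl
            rw [h1, Derivation.map_smul, Algebra.smul_def (Ideal.Quotient.mk K a), map_mul, Algebra.smul_def a]
            rfl }
        fun a b => by
          show ee (s (Ideal.Quotient.mk _ (a * b))) = a • ee (s (Ideal.Quotient.mk _ b)) + b • ee (s (Ideal.Quotient.mk _ a))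
          rw [map_mul, Derivation.leibniz, map_add, smul_eq_mul, smul_eq_mul, map_mul, map_mul, hee, hee]
          rfl
      let ψ : Ω[B⁄A] →ₗ[B] k := (IsScalarTower.toAlgHom B (B ⧸ q) k).toLinearMap.comp d.liftKaehlerDifferential
      have h0 := congrArg (LinearMap.liftBaseChange k ψ) hzero
      rw [δ, LinearMap.liftBaseChange_tmul, one_smul, map_zero] at h0
      have h1 : ee (s (Ideal.Quotient.mk _ (w * j - ∑ i, b' i * g i))) = 0 := by
        apply IsFractionRing.injective (B ⧸ q) k
        rw [map_zero, ← h0]
        simp only [ψ, LinearMap.comp_apply, Derivation.liftKaehlerDifferential_comp_D]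
        rfl
      obtain ⟨y, hy⟩ := Ideal.Quotient.mk_surjective (s (Ideal.Quotient.mk _ (w * j - ∑ i, b' i * g i)))
      rw [← hy, hee, Ideal.Quotient.eq_zero_iff_mem, ← hmem, hy] at h1
      simpa only [map_sub, map_mul, map_sum] using h1)
  obtain ⟨w₀, rfl⟩ := Ideal.Quotient.mk_surjective w
  let Δ := Matrix.det (Matrix.of fun i j => φ i (D A B (g j)))
  refine ⟨w₀ * Δ, fun h => ?_, fun S _ _ _ _ u' _ hu' => ⟨?_, ?_⟩⟩
  · rcases ‹q.IsPrime›.mem_or_mem h with h | h
    · exact hw ((hmem w₀).2 h)
    · exact hφ (Ideal.algebraMap_residueField_eq_zero.2 h)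
  · refine smooth_quotient_away g φ S u' ?_
    exact isUnit_of_mul_isUnit_right (x := algebraMap B S w₀) (map_mul (algebraMap B S) w₀ Δ ▸ hu')
  · refine Ideal.map_le_iff_le_comap.2 fun j hj => ?_
    have h1 := hwJ (Ideal.Quotient.mk _ j) hj
    rw [← map_mul] at h1
    obtain ⟨c, hc⟩ := (Ideal.mem_span_range_iff_exists_fun (R := B')).1 h1
    choose c' hc' using fun i => Ideal.Quotient.mk_surjective (c i)
    simp only [← hc', ← map_mul, ← map_sum] at hc
    have h2 : w₀ * j - ∑ i, c' i * g i ∈ K.map (algebraMap A B) := Ideal.Quotient.eq.1 hc.symm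
    have hu : IsUnit (algebraMap B S w₀) := isUnit_of_mul_isUnit_left (y := algebraMap B S Δ) (map_mul (algebraMap B S) w₀ Δ ▸ hu')
    rw [Ideal.mem_comap, ← Ideal.unit_mul_mem_iff_mem _ hu, ← map_mul,
      show w₀ * j = ∑ i, c' i * g i + (w₀ * j - ∑ i, c' i * g i) by ring, map_add, map_sum]
    refine Submodule.add_mem_sup (Ideal.sum_mem _ fun i _ => ?_) ?_
    · rw [map_mul]
      exact Ideal.mul_mem_left _ _ (Ideal.subset_span ⟨i, rfl⟩)
    · have h3 := Ideal.mem_map_of_mem (algebraMap B S) h2
      rwa [Ideal.map_map, ← IsScalarTower.algebraMap_eq] at h3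

end Point

end Groth.Agent.SmoothExt9
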