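import Mathlib

/-!
Cutting a smooth extension of a closed subscheme out of an affine scheme.
-/

set_option autoImplicit false
set_option linter.style.haveILetI false
set_option backward.isDefEq.respectTransparency false

universe u

open CategoryTheory CategoryTheory.Limits AlgebraicGeometry TopologicalSpace Opposite

namespace Groth.Agent.SmoothExt9

variable {Y X₁ Z Z₁ : Scheme.{u}}

/-- The ideal of the restrictions of the global equations. -/
noncomputable abbrev resSpan {r : ℕ} (g : Fin r → Γ(Y, ⊤)) (E : Y.Opens) : Ideal Γ(Y, E) :=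
  Ideal.span (Set.range fun a => (Y.presheaf.map (homOfLE (le_top : E ≤ ⊤)).op).hom (g a))

theorem exists_closedSubscheme [IsAffine Y] (φ : Y ⟶ X₁) (i : Z ⟶ Y) [IsClosedImmersion i] (ψ : Z ⟶ Z₁)
    (i₁ : Z₁ ⟶ X₁) [IsClosedImmersion i₁] (hsq : i ≫ φ = ψ ≫ i₁) {r : ℕ} (g : Fin r → Γ(Y, ⊤))
    (hg : ∀ a, i.appTop (g a) = 0)
    (hloc : ∀ y : Y, ∃ (V₁ : X₁.affineOpens) (E : Y.affineOpens) (e : E.1 ≤ φ ⁻¹ᵁ V₁.1), y ∈ E.1 ∧
      ((Ideal.Quotient.mk (resSpan g E.1)).comp (φ.appLE V₁.1 E.1 e).hom).Smooth ∧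
        RingHom.ker (i.app E.1).hom ≤ resSpan g E.1 ⊔ (RingHom.ker (i₁.app V₁.1).hom).map (φ.appLE V₁.1 E.1 e).hom) :
    ∃ (W : Scheme.{u}) (k : W ⟶ Y) (m : Z ⟶ W), IsClosedImmersion k ∧ m ≫ k = i ∧
      AlgebraicGeometry.Smooth (k ≫ φ) ∧ IsPullback m ψ (k ≫ φ) i₁ := by
  choose V₁ E e hyE hsm hle using hloc
  let I : Y.IdealSheafData := Scheme.IdealSheafData.ofIdealTop (Ideal.span (Set.range g))
  let k := I.subschemeι
  have hk : ∀ U : Y.affineOpens, RingHom.ker (k.app U.1).hom = resSpan g U.1 := fun U => by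
    rw [← Scheme.Hom.ker_apply, Scheme.IdealSheafData.ker_subschemeι, Scheme.IdealSheafData.ofIdealTop_ideal,
      Ideal.map_span, ← Set.range_comp]
    rfl
  have hki : k.ker ≤ i.ker := by
    rw [Scheme.IdealSheafData.ker_subschemeι]
    refine Scheme.IdealSheafData.le_of_isAffine ?_
    rw [Scheme.Hom.ker_apply, Scheme.IdealSheafData.ofIdealTop_ideal, Ideal.map_span, Ideal.span_le]
    rintro _ ⟨_, ⟨a, rfl⟩, rfl⟩
    show (i.app ⊤).hom ((Y.presheaf.map _).hom (g a)) = 0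
    rw [show (homOfLE (le_top : (⊤ : Y.Opens) ≤ ⊤)) = 𝟙 _ from rfl, op_id, Y.presheaf.map_id]
    exact hg a
  let m := IsClosedImmersion.lift k i hki
  have hm : m ≫ k = i := IsClosedImmersion.lift_fac _ _ _
  have hsm' : AlgebraicGeometry.Smooth (k ≫ φ) := by
    rw [HasRingHomProperty.iff_exists_appLE (P := @AlgebraicGeometry.Smooth)
      (RingHom.Smooth.stableUnderComposition.stableUnderCompositionWithLocalizationAway
        RingHom.Smooth.holdsForLocalizationAway).left]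
    intro w
    let y := k w
    refine ⟨V₁ y, ⟨k ⁻¹ᵁ (E y).1, (E y).2.preimage k⟩, hyE y, ?_, ?_⟩
    · exact fun x hx => e y hx
    rw [← Scheme.Hom.appLE_comp_appLE k φ (V₁ y).1 (E y).1 (k ⁻¹ᵁ (E y).1) (e y) le_rfl,
      ← Scheme.Hom.app_eq_appLE]
    simp only [CommRingCat.hom_comp]
    have hsurj := Scheme.Hom.app_surjective k (E y).1 (E y).2
    let q : Γ(Y, (E y).1) ⧸ resSpan g (E y).1 ≃+* Γ(I.subscheme, k ⁻¹ᵁ (E y).1) :=
      (Ideal.quotEquivOfEq (hk (E y)).symm).trans (RingHom.quotientKerEquivOfSurjective hsurj)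
    have hq : (k.app (E y).1).hom = q.toRingHom.comp (Ideal.Quotient.mk _) := RingHom.ext fun _ => rfl
    rw [hq, RingHom.comp_assoc]
    exact RingHom.Smooth.respectsIso.1 _ q (hsm y)
  refine ⟨I.subscheme, k, m, inferInstance, hm, hsm', ?_⟩
  have hw : m ≫ k ≫ φ = ψ ≫ i₁ := by rw [reassoc_of% hm, hsq]
  let l : Z ⟶ pullback (k ≫ φ) i₁ := pullback.lift m ψ hw
  let q : pullback (k ≫ φ) i₁ ⟶ Y := pullback.fst (k ≫ φ) i₁ ≫ k
  have hlq : l ≫ q = i := by simp only [l, q, pullback.lift_fst_assoc, hm]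
  have hker : i.ker = q.ker := by
    refine le_antisymm ?_ (hlq ▸ Scheme.Hom.le_ker_comp l q)
    refine Scheme.IdealSheafData.le_of_iSup_eq_top E (top_le_iff.1 fun y _ => Opens.mem_iSup.2 ⟨y, hyE y⟩) fun y => ?_
    rw [Scheme.Hom.ker_apply, Scheme.Hom.ker_apply]
    refine (hle y).trans (sup_le ?_ ?_)
    · rw [← hk, Scheme.Hom.comp_app]
      intro x hx
      rw [RingHom.mem_ker, CommRingCat.hom_comp, RingHom.comp_apply, RingHom.mem_ker.1 hx, map_zero]
    · refine Ideal.map_le_iff_le_comap.2 fun a ha => ?_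
      rw [Ideal.mem_comap, RingHom.mem_ker]
      have h1 : q ≫ φ = pullback.snd _ _ ≫ i₁ := by simp only [q, Category.assoc, pullback.condition]
      have hb : q ⁻¹ᵁ (E y).1 ≤ (q ≫ φ) ⁻¹ᵁ (V₁ y).1 := fun x hx => e y hx
      have h2 : (q ≫ φ).appLE (V₁ y).1 (q ⁻¹ᵁ (E y).1) hb a = 0 := by
        have : ∀ (F : pullback (k ≫ φ) i₁ ⟶ X₁) (hF : F = pullback.snd _ _ ≫ i₁) (h),
            F.appLE (V₁ y).1 (q ⁻¹ᵁ (E y).1) h a = 0 := by
          rintro _ rfl h
          rw [Scheme.Hom.comp_appLE, CommRingCat.comp_apply, RingHom.mem_ker.1 ha, map_zero]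
        exact this _ h1 hb
      rw [← Scheme.Hom.appLE_comp_appLE q φ (V₁ y).1 (E y).1 (q ⁻¹ᵁ (E y).1) (e y) le_rfl,
        ← Scheme.Hom.app_eq_appLE] at h2
      exact h2
  haveI := IsClosedImmersion.isIso_of_ker_eq i q l hlq hker
  exact IsPullback.of_iso_pullback ⟨hw⟩ (asIso l) (pullback.lift_fst _ _ _) (pullback.lift_snd _ _ _)

end Groth.Agent.SmoothExt9
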