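import Groth.Agent.Lib.SmoothExt9.Point

/-!
A smooth closed subscheme extends to a smooth subscheme near finitely many points of an affine open.
-/

set_option autoImplicit false
set_option linter.style.haveILetI false
set_option backward.isDefEq.respectTransparency false

universe u

open CategoryTheory CategoryTheory.Limits AlgebraicGeometry TopologicalSpace Opposite

namespace Groth.Agent.SmoothExt9

theorem smooth_to_subsingleton {A R : Type u} [CommRing A] [CommRing R] [Subsingleton R] (φ : A →+* R) : φ.Smooth := by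
  letI := φ.toAlgebra
  haveI : IsLocalization.Away (0 : A) R :=
    (isLocalization_iff _ _).2 ⟨fun _ => isUnit_of_subsingleton _, fun z => ⟨⟨0, 1⟩, Subsingleton.elim _ _⟩,
      fun _ => ⟨⟨0, 1, pow_one 0⟩, by simp⟩⟩
  exact RingHom.Smooth.holdsForLocalizationAway R (0 : A)

set_option maxHeartbeats 400000 in
theorem exists_nhd_closedSubscheme {X₁ X₂ Z₁ Z₂ : Scheme.{u}} (i₁ : Z₁ ⟶ X₁) [IsClosedImmersion i₁] (i₂ : Z₂ ⟶ X₂)
    [IsClosedImmersion i₂] (f : X₂ ⟶ X₁) (g : Z₂ ⟶ Z₁) (n e : ℕ) [SmoothOfRelativeDimension n f]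
    [SmoothOfRelativeDimension e g] (hsq : i₂ ≫ f = g ≫ i₁) (T : Set X₂) (hT : T.Finite)
    (hcase : e < n ∨ T ⊆ Set.range i₂.base) (V : X₂.Opens) (hV : IsAffineOpen V) (hTV : T ⊆ (V : Set X₂)) :
    ∃ U : X₂.Opens, T ⊆ (U : Set X₂) ∧
      ∃ (W : Scheme.{u}) (k : W ⟶ (U : Scheme.{u}))
        (m : ((i₂ ⁻¹ᵁ U : Z₂.Opens) : Scheme.{u}) ⟶ W),
        IsClosedImmersion k ∧ m ≫ k = i₂ ∣_ U ∧ AlgebraicGeometry.Smooth (k ≫ U.ι ≫ f) ∧
          IsPullback m ((i₂ ⁻¹ᵁ U).ι ≫ g) (k ≫ U.ι ≫ f) i₁ := by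
  classical
  let P : {x // x ∈ T} → PrimeSpectrum Γ(X₂, V) := fun x => hV.primeIdealOf ⟨x.1, hTV x.2⟩
  have hPinj : Function.Injective P := fun x y h => by
    apply Subtype.ext
    have h1 := hV.fromSpec_primeIdealOf ⟨x.1, hTV x.2⟩
    have h2 := hV.fromSpec_primeIdealOf ⟨y.1, hTV y.2⟩
    rw [show hV.primeIdealOf ⟨x.1, hTV x.2⟩ = hV.primeIdealOf ⟨y.1, hTV y.2⟩ from h] at h1
    exact h1.symm.trans h2
  haveI : Finite {x // x ∈ T} := hT.to_subtype
  let ι := {x : {x // x ∈ T} // ∀ x', P x ≤ P x' → P x = P x'}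
  haveI : Fintype ι := Fintype.ofFinite ι
  let J := RingHom.ker (i₂.app V).hom
  let pr : ι → Ideal Γ(X₂, V) := fun y => (P y.1).asIdeal
  have hmax : ∀ x : {x // x ∈ T}, ∃ y : ι, P x ≤ P y.1 := fun x => by
    obtain ⟨p, hxp, hp⟩ := (Set.finite_range P).exists_le_maximal (Set.mem_range_self x)
    obtain ⟨⟨y, rfl⟩, hp⟩ := hp
    exact ⟨⟨y, fun x' h => le_antisymm h (hp (Set.mem_range_self x') h)⟩, hxp⟩
  -- elements separating the points
  have hsep : ∀ y y' : ι, ∃ a ∈ pr y', y' = y ∨ a ∉ pr y := fun y y' => by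
    by_cases h : y' = y
    · exact ⟨0, zero_mem _, Or.inl h⟩
    · obtain ⟨a, ha, ha'⟩ := SetLike.not_le_iff_exists.1 (show ¬ pr y' ≤ pr y from fun hle =>
        h (Subtype.ext (hPinj (y'.2 y.1 hle))))
      exact ⟨a, ha, Or.inr ha'⟩
  choose a ha ha' using hsep
  let σ : ι → Γ(X₂, V) := fun y => ∏ y' ∈ Finset.univ.erase y, a y y'
  have hσ : ∀ y, σ y ∉ pr y := fun y h => by
    obtain ⟨y', hy', h'⟩ := (P y.1).isPrime.prod_mem_iff.1 h
    exact ((ha' y y').resolve_left (Finset.ne_of_mem_erase hy')) h'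
  have hσ' : ∀ y y', y' ≠ y → σ y ∈ pr y' := fun y y' h => by
    obtain ⟨c, hc⟩ := Finset.dvd_prod_of_mem (a y) (Finset.mem_erase.2 ⟨h, Finset.mem_univ y'⟩)
    show σ y ∈ pr y'
    rw [show σ y = _ from hc]
    exact Ideal.mul_mem_right _ _ (ha y y')
  -- equations at each point
  have hequ : ∀ y : ι, ∃ gy : Fin (n - e) → Γ(X₂, V), (∀ b, gy b ∈ J) ∧
      ∀ G : Fin (n - e) → Γ(X₂, V), (∀ b, G b ∈ J) → (∃ c ∉ pr y, ∀ b, G b - c * gy b ∈ pr y * J) →
        ∃ O : X₂.Opens, y.1.1 ∈ O ∧ ∀ (s : Γ(X₂, V)) (z : (X₂.basicOpen s : Scheme.{u})), z.1 ∈ O →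
          LocData i₁ ((X₂.basicOpen s).ι ≫ f) (i₂ ∣_ X₂.basicOpen s) (restrictFun (X₂.basicOpen_le s) G) z := by
    intro y
    by_cases hy : y.1.1 ∈ Set.range i₂.base
    · exact point_data i₁ i₂ f g n e hsq V hV y.1.1 (hTV y.1.2) hy
    · have hen : 0 < n - e := Nat.sub_pos_of_lt (hcase.resolve_right fun h => hy (h y.1.2))
      obtain ⟨c₀, hc₀, hc₀'⟩ : ∃ c₀ ∈ J, c₀ ∉ pr y := by
        by_contra! hall
        apply hy
        have h1 : y.1.1 ∈ i₂.ker.support := by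
          rw [Scheme.IdealSheafData.mem_support_iff_of_mem (U := ⟨V, hV⟩) (hTV y.1.2), Scheme.Hom.ker_apply,
            Scheme.mem_zeroLocus_iff]
          exact fun b hb => (mem_prime_iff hV (hTV y.1.2) b).1 (hall b hb)
        rw [← SetLike.mem_coe, Scheme.Hom.support_ker] at h1
        exact i₂.isClosedEmbedding.isClosed_range.closure_eq.le h1
      refine ⟨fun _ => c₀, fun _ => hc₀, fun G hG ⟨c, hc, hGc⟩ => ?_⟩
      let b₀ : Fin (n - e) := ⟨0, hen⟩
      have hG₀ : G b₀ ∉ pr y := fun h => by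
        have h1 : c * c₀ ∈ pr y := by
          have h3 : G b₀ - c * c₀ ∈ pr y := (Ideal.mul_le_left : pr y * J ≤ pr y) (hGc b₀)
          have h2 := (pr y).sub_mem h h3
          rwa [sub_sub_cancel] at h2
        exact ((P y.1).isPrime.mem_or_mem h1).elim hc hc₀'
      refine ⟨X₂.basicOpen (G b₀), not_not.1 fun h => hG₀ ((mem_prime_iff hV (hTV y.1.2) _).2 h),
        fun s z hz => ?_⟩
      let U := X₂.basicOpen s
      obtain ⟨V₁, hV₁, hfz, -⟩ := exists_isAffineOpen_mem_and_subset (X := X₁) (x := f z.1) (U := ⊤) trivial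
      obtain ⟨E, hE, hzE, hEle⟩ := exists_isAffineOpen_mem_and_subset (X := (U : Scheme.{u})) (x := z)
        (U := U.ι ⁻¹ᵁ (X₂.basicOpen (G b₀) ⊓ f ⁻¹ᵁ V₁)) ⟨hz, hfz⟩
      have htop : resSpan (restrictFun (X₂.basicOpen_le s) G) E = ⊤ := by
        rw [resSpan_restrictFun]
        refine Ideal.eq_top_of_isUnit_mem _ (Ideal.subset_span ⟨b₀, rfl⟩) ?_
        have hle : U.ι ''ᵁ E ≤ X₂.basicOpen (G b₀) := by
          rintro _ ⟨x, hx, rfl⟩
          exact (hEle hx).1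
        have h0 : IsUnit ((X₂.presheaf.map (homOfLE (X₂.basicOpen_le (G b₀))).op).hom (G b₀)) :=
          RingedSpace.isUnit_res_basicOpen X₂.toRingedSpace (G b₀)
        have h1 := h0.map (X₂.presheaf.map (homOfLE hle).op).hom
        rw [← RingHom.comp_apply, ← CommRingCat.hom_comp, ← X₂.presheaf.map_comp] at h1
        exact h1
      refine ⟨⟨V₁, hV₁⟩, ⟨E, hE⟩, fun x hx => (hEle hx).2, hzE, ?_, ?_⟩
      · haveI : Subsingleton (Γ((U : Scheme.{u}), E) ⧸ resSpan (restrictFun (X₂.basicOpen_le s) G) E) :=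
          Ideal.Quotient.subsingleton_iff.2 htop
        exact smooth_to_subsingleton _
      · exact le_sup_of_le_left (le_top.trans htop.ge)
  choose gy hgy hO using hequ
  let G : Fin (n - e) → Γ(X₂, V) := fun b => ∑ y, σ y * gy y b
  have hG : ∀ b, G b ∈ J := fun b => Ideal.sum_mem _ fun y _ => Ideal.mul_mem_left _ _ (hgy y b)
  have hcong : ∀ y, ∃ c ∉ pr y, ∀ b, G b - c * gy y b ∈ pr y * J := fun y =>
    ⟨σ y, hσ y, fun b => by
      rw [show G b = σ y * gy y b + ∑ y' ∈ Finset.univ.erase y, σ y' * gy y' b from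
        (Finset.add_sum_erase _ _ (Finset.mem_univ y)).symm, add_sub_cancel_left]
      exact Ideal.sum_mem _ fun y' hy' =>
        Ideal.mul_mem_mul (hσ' y' y (Finset.ne_of_mem_erase hy').symm) (hgy y' b)⟩
  choose O hyO hOdata using fun y => hO y G hG (hcong y)
  -- a basic open of `V` inside the good opens, containing all the points
  have hs₀ : ∀ y : ι, ∃ s₀ : Γ(X₂, V), X₂.basicOpen s₀ ≤ O y ∧ y.1.1 ∈ X₂.basicOpen s₀ := fun y =>
    hV.exists_basicOpen_le ⟨y.1.1, hyO y⟩ (hTV y.1.2)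
  choose s₀ hs₀le hys₀ using hs₀
  let s : Γ(X₂, V) := ∑ y, σ y * s₀ y
  have hsy : ∀ y, s ∉ pr y := fun y h => by
    rw [show s = σ y * s₀ y + ∑ y' ∈ Finset.univ.erase y, σ y' * s₀ y' from
      (Finset.add_sum_erase _ _ (Finset.mem_univ y)).symm] at h
    have h1 := (Submodule.add_mem_iff_left _ (Ideal.sum_mem _ fun y' hy' =>
      Ideal.mul_mem_right _ _ (hσ' y' y (Finset.ne_of_mem_erase hy').symm))).1 h
    rcases (P y.1).isPrime.mem_or_mem h1 with h1 | h1
    · exact hσ y h1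
    · exact (mem_prime_iff hV (hTV y.1.2) _).1 h1 (hys₀ y)
  have hscover : ∀ x : X₂, x ∈ X₂.basicOpen s → ∃ y, x ∈ O y := fun x hx => by
    by_contra! hall
    have hxV : x ∈ V := X₂.basicOpen_le s hx
    apply (mem_prime_iff hV hxV s).1 ?_ hx
    exact Ideal.sum_mem _ fun y _ => Ideal.mul_mem_left _ _
      ((mem_prime_iff hV hxV _).2 fun h => hall y (hs₀le y h))
  haveI : IsAffine (X₂.basicOpen s : Scheme.{u}) := hV.basicOpen s
  refine ⟨X₂.basicOpen s, fun x hx => ?_, ?_⟩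
  · obtain ⟨y, hy⟩ := hmax ⟨x, hx⟩
    refine not_not.1 fun h => hsy y (hy ((mem_prime_iff hV (hTV hx) s).2 h))
  · refine exists_closedSubscheme ((X₂.basicOpen s).ι ≫ f) (i₂ ∣_ X₂.basicOpen s) ((i₂ ⁻¹ᵁ _).ι ≫ g) i₁
      (by rw [← Category.assoc, morphismRestrict_ι, Category.assoc, hsq, Category.assoc])
      (restrictFun (X₂.basicOpen_le s) G) (fun b => ?_) fun z => ?_
    · show ((i₂ ∣_ X₂.basicOpen s).app ⊤).hom _ = 0
      rw [morphismRestrict_app, CommRingCat.hom_comp, RingHom.comp_apply]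
      have h1 := congrArg (fun φ => φ.hom (G b)) (i₂.naturality
        (homOfLE (show (X₂.basicOpen s).ι ''ᵁ ⊤ ≤ V from (X₂.basicOpen s).ι_image_top.le.trans (X₂.basicOpen_le s))).op)
      simp only [CommRingCat.hom_comp, RingHom.comp_apply] at h1
      rw [show restrictFun (X₂.basicOpen_le s) G b = _ from rfl]
      erw [h1]
      rw [RingHom.mem_ker.1 (hG b), map_zero, map_zero]
    · obtain ⟨y, hy⟩ := hscover z.1 z.2
      exact hOdata y s z hy

end Groth.Agent.SmoothExt9
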