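import Groth.Agent.Lib.SmoothExt9.Algebra
import Groth.Agent.Lib.SmoothExt9.Glue

/-!
Local equations of a smooth extension at a point of the closed subscheme.
-/

set_option autoImplicit false
set_option linter.style.haveILetI false
set_option backward.isDefEq.respectTransparency false
set_option maxHeartbeats 800000

universe u

open CategoryTheory CategoryTheory.Limits AlgebraicGeometry TopologicalSpace Opposite

namespace Groth.Agent.SmoothExt9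

variable {X₁ X₂ Z₁ Z₂ : Scheme.{u}}

/-- The membership in the prime of a point of an affine open. -/
theorem mem_prime_iff {V : X₂.Opens} (hV : IsAffineOpen V) {y : X₂} (hy : y ∈ V) (b : Γ(X₂, V)) :
    b ∈ (hV.primeIdealOf ⟨y, hy⟩).asIdeal ↔ y ∉ X₂.basicOpen b := by
  have h : hV.primeIdealOf ⟨y, hy⟩ ∈ hV.fromSpec ⁻¹ᵁ X₂.basicOpen b ↔ y ∈ X₂.basicOpen b := by
    rw [Scheme.Hom.mem_preimage, hV.fromSpec_primeIdealOf ⟨y, hy⟩]
  rw [hV.fromSpec_preimage_basicOpen] at h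
  rw [← h]
  exact not_not.symm

/-- The data to glue at a point `z` of an open `U`. -/
def LocData (i₁ : Z₁ ⟶ X₁) {Y : Scheme.{u}} (φ : Y ⟶ X₁) {Z : Scheme.{u}} (i : Z ⟶ Y) {r : ℕ}
    (g : Fin r → Γ(Y, ⊤)) (z : Y) : Prop :=
  ∃ (V₁ : X₁.affineOpens) (E : Y.affineOpens) (e : E.1 ≤ φ ⁻¹ᵁ V₁.1), z ∈ E.1 ∧
      ((Ideal.Quotient.mk (resSpan g E.1)).comp (φ.appLE V₁.1 E.1 e).hom).Smooth ∧
        RingHom.ker (i.app E.1).hom ≤ resSpan g E.1 ⊔ (RingHom.ker (i₁.app V₁.1).hom).map (φ.appLE V₁.1 E.1 e).hom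

/-- The restriction of global equations to an open subscheme. -/
noncomputable def restrictFun {V U : X₂.Opens} (h : U ≤ V) {r : ℕ} (G : Fin r → Γ(X₂, V)) :
    Fin r → Γ((U : Scheme.{u}), ⊤) :=
  fun a => (X₂.presheaf.map (homOfLE (x := U.ι ''ᵁ ⊤) (U.ι_image_top.le.trans h)).op).hom (G a)

theorem resSpan_restrictFun {V U : X₂.Opens} (h : U ≤ V) {r : ℕ} (G : Fin r → Γ(X₂, V))
    (E : (U : Scheme.{u}).Opens) :
    resSpan (restrictFun h G) E = Ideal.span (Set.range fun a =>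
      (X₂.presheaf.map (homOfLE (x := U.ι ''ᵁ E) (((Scheme.Hom.image_mono _ le_top).trans U.ι_image_top.le).trans h)).op).hom (G a)) := by
  refine congrArg (fun F => Ideal.span (Set.range F)) (funext fun a => ?_)
  show ((X₂.presheaf.map _).hom) ((X₂.presheaf.map _).hom (G a)) = _
  rw [← CommRingCat.comp_apply, ← X₂.presheaf.map_comp]
  rfl

theorem point_data (i₁ : Z₁ ⟶ X₁) [IsClosedImmersion i₁] (i₂ : Z₂ ⟶ X₂) [IsClosedImmersion i₂]
    (f : X₂ ⟶ X₁) (g : Z₂ ⟶ Z₁) (n e : ℕ) [SmoothOfRelativeDimension n f] [SmoothOfRelativeDimension e g]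
    (hsq : i₂ ≫ f = g ≫ i₁) (V : X₂.Opens) (hV : IsAffineOpen V) (y : X₂) (hy : y ∈ V)
    (hyZ : y ∈ Set.range i₂.base) :
    ∃ gy : Fin (n - e) → Γ(X₂, V), (∀ a, i₂.app V (gy a) = 0) ∧
      ∀ G : Fin (n - e) → Γ(X₂, V), (∀ a, i₂.app V (G a) = 0) →
        (∃ c ∉ (hV.primeIdealOf ⟨y, hy⟩).asIdeal, ∀ a,
          G a - c * gy a ∈ (hV.primeIdealOf ⟨y, hy⟩).asIdeal * RingHom.ker (i₂.app V).hom) →
        ∃ O : X₂.Opens, y ∈ O ∧ ∀ (s : Γ(X₂, V)) (z : (X₂.basicOpen s : Scheme.{u})), z.1 ∈ O →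
          LocData i₁ ((X₂.basicOpen s).ι ≫ f) (i₂ ∣_ X₂.basicOpen s) (restrictFun (X₂.basicOpen_le s) G) z := by
  haveI : AlgebraicGeometry.Smooth f := SmoothOfRelativeDimension.smooth n f
  haveI : AlgebraicGeometry.Smooth g := SmoothOfRelativeDimension.smooth e g
  obtain ⟨V₁, hV₁, hfy, -⟩ := exists_isAffineOpen_mem_and_subset (X := X₁) (x := f y) (U := ⊤) trivial
  obtain ⟨t, hts, hyt⟩ := hV.exists_basicOpen_le (V := f ⁻¹ᵁ V₁) ⟨y, hfy⟩ hy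
  let D := X₂.basicOpen t
  have hD : IsAffineOpen D := hV.basicOpen t
  let D₁ := i₁ ⁻¹ᵁ V₁
  let D₂ := i₂ ⁻¹ᵁ D
  have hD₂le : D₂ ≤ g ⁻¹ᵁ D₁ := fun x hx => by
    show i₁ (g x) ∈ V₁
    rw [← Scheme.Hom.comp_apply, ← hsq]
    exact hts hx
  letI : Algebra Γ(X₁, V₁) Γ(X₂, D) := (f.appLE V₁ D hts).hom.toAlgebra
  letI : Algebra Γ(X₁, V₁) Γ(Z₁, D₁) := (i₁.app V₁).hom.toAlgebra
  letI : Algebra Γ(X₂, D) Γ(Z₂, D₂) := (i₂.app D).hom.toAlgebra
  letI : Algebra Γ(Z₁, D₁) Γ(Z₂, D₂) := (g.appLE D₁ D₂ hD₂le).hom.toAlgebra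
  letI : Algebra Γ(X₁, V₁) Γ(Z₂, D₂) := (i₁.app V₁ ≫ g.appLE D₁ D₂ hD₂le).hom.toAlgebra
  haveI : IsScalarTower Γ(X₁, V₁) Γ(Z₁, D₁) Γ(Z₂, D₂) := IsScalarTower.of_algebraMap_eq fun _ => rfl
  haveI : IsScalarTower Γ(X₁, V₁) Γ(X₂, D) Γ(Z₂, D₂) := IsScalarTower.of_algebraMap_eq fun a => by
    show (i₁.app V₁ ≫ g.appLE D₁ D₂ hD₂le) a = (f.appLE V₁ D hts ≫ i₂.app D) a
    congr 2
    rw [Scheme.Hom.app_eq_appLE, Scheme.Hom.app_eq_appLE, Scheme.Hom.appLE_comp_appLE, Scheme.Hom.appLE_comp_appLE]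
    simp only [hsq]
    rfl
  haveI : Algebra.Smooth Γ(X₁, V₁) Γ(X₂, D) := f.smooth_appLE hV₁ hD hts
  haveI : Algebra.Smooth Γ(Z₁, D₁) Γ(Z₂, D₂) := g.smooth_appLE (hV₁.preimage i₁) (hD.preimage i₂) hD₂le
  have hA : Function.Surjective (algebraMap Γ(X₁, V₁) Γ(Z₁, D₁)) := i₁.app_surjective V₁ hV₁
  have hB : Function.Surjective (algebraMap Γ(X₂, D) Γ(Z₂, D₂)) := i₂.app_surjective D hD
  have hn := HasRingHomProperty.appLE (@SmoothOfRelativeDimension n) f ‹_› ⟨V₁, hV₁⟩ ⟨D, hD⟩ hts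
  have he := HasRingHomProperty.appLE (@SmoothOfRelativeDimension e) g ‹_› ⟨D₁, hV₁.preimage i₁⟩
    ⟨D₂, hD.preimage i₂⟩ hD₂le
  let q := (hD.primeIdealOf ⟨y, hyt⟩).asIdeal
  have hq : RingHom.ker (algebraMap Γ(X₂, D) Γ(Z₂, D₂)) ≤ q := fun b hb => by
    rw [mem_prime_iff hD hyt]
    intro hyb
    obtain ⟨z, rfl⟩ := hyZ
    have h1 : z ∈ i₂ ⁻¹ᵁ X₂.basicOpen b := hyb
    rw [Scheme.preimage_basicOpen, show (i₂.app D).hom b = 0 from hb, Scheme.basicOpen_zero] at h1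
    exact h1
  obtain ⟨-, hfin, gD, hgD, hli⟩ := exists_basis q hA hB hq n e hn he
  -- lift the equations to `V`
  haveI hloc : IsLocalization.Away t Γ(X₂, D) := hV.isLocalization_basicOpen t
  let P := (hV.primeIdealOf ⟨y, hy⟩).asIdeal
  let J := RingHom.ker (i₂.app V).hom
  let res : Γ(X₂, V) →+* Γ(X₂, D) := (X₂.presheaf.map (homOfLE (X₂.basicOpen_le t)).op).hom
  have hres : algebraMap Γ(X₂, V) Γ(X₂, D) = res := rfl
  have hPq : ∀ b, b ∈ P ↔ res b ∈ q := fun b => by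
    rw [mem_prime_iff hV hy, mem_prime_iff hD hyt, Scheme.basicOpen_res]
    exact not_congr ⟨fun h => ⟨hyt, h⟩, fun h => h.2⟩
  have hJD : J.map res = RingHom.ker (algebraMap Γ(X₂, D) Γ(Z₂, D₂)) := by
    have := i₂.ker.map_ideal (U := ⟨D, hD⟩) (V := ⟨V, hV⟩) (X₂.basicOpen_le t)
    rwa [Scheme.Hom.ker_apply, Scheme.Hom.ker_apply] at this
  have hlift : ∀ a, ∃ (b : Γ(X₂, V)) (m : ℕ), b ∈ J ∧ res b = res (t ^ m) * gD a := fun a => by
    have h1 : gD a ∈ J.map (algebraMap Γ(X₂, V) Γ(X₂, D)) := hJD.ge (hgD a)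
    obtain ⟨⟨⟨b, hb⟩, ⟨_, m, rfl⟩⟩, hbm⟩ := (IsLocalization.mem_map_algebraMap_iff (Submonoid.powers t) _).1 h1
    exact ⟨b, m, hb, by rw [← hres, mul_comm]; exact hbm.symm⟩
  choose gy m hgy hgym using hlift
  refine ⟨gy, hgy, fun G hG ⟨c, hc, hGc⟩ => ?_⟩
  -- the differentials of the equations
  let k := q.ResidueField
  have hk : ∀ b, b ∈ q → algebraMap Γ(X₂, D) k b = 0 := fun b hb => Ideal.algebraMap_residueField_eq_zero.2 hb
  have hzero : ∀ x ∈ P * J, δ (A := Γ(X₁, V₁)) k (res x) = 0 := fun x hx => by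
    refine Submodule.mul_induction_on hx (fun p hp j hj => ?_) (fun a b ha hb => by rw [map_add, δ_add, ha, hb, add_zero])
    rw [map_mul, δ_mul, hk _ ((hPq p).1 hp), hk _ (hq (hJD.le (Ideal.mem_map_of_mem _ hj))), zero_smul, zero_smul,
      add_zero]
  have ht : res t ∉ q := fun h => (mem_prime_iff hV hy t).1 ((hPq t).2 h) hyt
  let w : Fin (n - e) → kˣ := fun a => Units.mk0 (algebraMap Γ(X₂, D) k (res c * res (t ^ m a))) (fun h => by
    rcases (hD.primeIdealOf ⟨y, hyt⟩).isPrime.mem_or_mem (Ideal.algebraMap_residueField_eq_zero.1 h) with h | h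
    · exact hc ((hPq c).2 h)
    · rw [map_pow] at h
      exact ht ((hD.primeIdealOf ⟨y, hyt⟩).isPrime.mem_of_pow_mem _ h))
  have hδ : ∀ a, δ (A := Γ(X₁, V₁)) k (res (G a)) = w a • δ (A := Γ(X₁, V₁)) k (gD a) := fun a => by
    rw [show G a = c * gy a + (G a - c * gy a) by ring, map_add, δ_add, hzero _ (hGc a), add_zero, map_mul, hgym,
      ← mul_assoc, δ_mul, hk _ (hq (hgD a)), zero_smul, add_zero]
    rfl
  have hli' : LinearIndependent k fun a => δ (A := Γ(X₁, V₁)) k (res (G a)) := by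
    rw [show (fun a => δ (A := Γ(X₁, V₁)) k (res (G a))) = w • fun a => δ (A := Γ(X₁, V₁)) k (gD a) from funext hδ]
    exact hli.units_smul w
  have hG' : ∀ a, res (G a) ∈ RingHom.ker (algebraMap Γ(X₂, D) Γ(Z₂, D₂)) := fun a =>
    hJD.le (Ideal.mem_map_of_mem _ (hG a))
  obtain ⟨u, hu, huS⟩ := exists_nhd q hA hB hq hfin (fun a => res (G a)) hG' hli'
  refine ⟨X₂.basicOpen u, not_not.1 fun h => hu ((mem_prime_iff hD hyt u).2 h), fun s z hz => ?_⟩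
  let U := X₂.basicOpen s
  let u' := u * res s
  have hO : X₂.basicOpen u ⊓ U = X₂.basicOpen u' := by
    rw [Scheme.basicOpen_mul, Scheme.basicOpen_res]
    ext x
    exact ⟨fun h => ⟨h.1, X₂.basicOpen_le u h.1, h.2⟩, fun h => ⟨h.1, h.2.2⟩⟩
  let E : (U : Scheme.{u}).Opens := U.ι ⁻¹ᵁ X₂.basicOpen u'
  have hE : IsAffineOpen E := (hD.basicOpen u').preimage_of_isOpenImmersion U.ι
    (by rw [Scheme.Opens.opensRange_ι, ← hO]; exact inf_le_right)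
  have himg : U.ι ''ᵁ E = X₂.basicOpen u' := by
    rw [Scheme.Hom.image_preimage_eq_opensRange_inf, Scheme.Opens.opensRange_ι, ← hO]
    exact inf_eq_right.2 inf_le_right
  have hED : U.ι ''ᵁ E ≤ D := himg.le.trans (X₂.basicOpen_le u')
  have hEV₁ : E ≤ (U.ι ≫ f) ⁻¹ᵁ V₁ := fun x hx => hts (hED ⟨x, hx, rfl⟩)
  let S := Γ(X₂, U.ι ''ᵁ E)
  letI : Algebra Γ(X₂, D) S := (X₂.presheaf.map (homOfLE hED).op).hom.toAlgebra
  letI : Algebra Γ(X₁, V₁) S := ((U.ι ≫ f).appLE V₁ E hEV₁).hom.toAlgebra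
  haveI : IsScalarTower Γ(X₁, V₁) Γ(X₂, D) S := IsScalarTower.of_algebraMap_eq fun a => by
    show ((U.ι ≫ f).appLE V₁ E hEV₁) a = (f.appLE V₁ D hts ≫ X₂.presheaf.map (homOfLE hED).op) a
    congr 2
    rw [← Scheme.Hom.appLE_comp_appLE U.ι f V₁ D E hts (fun x hx => hED ⟨x, hx, rfl⟩), Scheme.Opens.ι_appLE]
  haveI : IsLocalization.Away u' S := hD.isLocalization_of_eq_basicOpen u' (homOfLE hED) himg
  have huu : IsUnit (algebraMap Γ(X₂, D) S u) :=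
    isUnit_of_mul_isUnit_left (y := algebraMap Γ(X₂, D) S (res s))
      (map_mul (algebraMap Γ(X₂, D) S) u (res s) ▸ IsLocalization.Away.algebraMap_isUnit (S := S) u')
  obtain ⟨hsm, hle⟩ := huS S u' huu
  have hspan : resSpan (restrictFun (X₂.basicOpen_le s) G) E =
      Ideal.span (Set.range fun a => algebraMap Γ(X₂, D) S (res (G a))) := by
    rw [resSpan_restrictFun]
    refine congrArg (fun F => Ideal.span (Set.range F)) (funext fun a => ?_)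
    rw [RingHom.algebraMap_toAlgebra, ← CommRingCat.comp_apply, ← X₂.presheaf.map_comp]
    rfl
  refine ⟨⟨V₁, hV₁⟩, ⟨E, hE⟩, hEV₁, show z.1 ∈ X₂.basicOpen u' from hO.le ⟨hz, z.2⟩, ?_, ?_⟩
  · show ((Ideal.Quotient.mk (resSpan (restrictFun (X₂.basicOpen_le s) G) E)).comp _).Smooth
    rw [hspan]
    exact RingHom.smooth_algebraMap.2 hsm
  · show _ ≤ resSpan (restrictFun (X₂.basicOpen_le s) G) E ⊔ _
    rw [hspan]
    refine le_trans ?_ hle
    show RingHom.ker ((i₂ ∣_ U).app E).hom ≤ _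
    rw [← Scheme.Hom.ker_apply (i₂ ∣_ U) ⟨E, hE⟩, AlgebraicGeometry.Scheme.ker_morphismRestrict_ideal]
    refine le_of_eq ?_
    rw [← i₂.ker.map_ideal (V := ⟨D, hD⟩) hED, Scheme.Hom.ker_apply]
    rfl

end Groth.Agent.SmoothExt9
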